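import Mathlib.RingTheory.Spectrum.Prime.FreeLocus
import Mathlib.RingTheory.Unramified.Field
import Mathlib.RingTheory.Unramified.Basic
import Mathlib.RingTheory.LocalRing.ResidueField.Fiber
import Mathlib.FieldTheory.IsAlgClosed.Basic
import Mathlib.RingTheory.Artinian.Module
import Mathlib.RingTheory.Jacobson.Ring
import Mathlib.RingTheory.Ideal.GoingUp

/-!
Finite flat unramified extensions of domains: points in a fibre over an algebraically closed residue field.
-/

set_option autoImplicit false
set_option linter.style.haveILetI false

universe u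

open TensorProduct

namespace Groth.Agent.EtaleCount

theorem card_primeSpectrum (k S : Type u) [Field k] [IsAlgClosed k] [CommRing S] [Algebra k S] [Module.Finite k S]
    [Algebra.FormallyUnramified k S] : Nat.card (PrimeSpectrum S) = Module.finrank k S := by
  classical
  haveI : IsReduced S := Algebra.FormallyUnramified.isReduced_of_field k S
  haveI : IsArtinianRing S := IsArtinianRing.of_finite k S
  haveI : Fintype (MaximalSpectrum S) := Fintype.ofFinite _
  have h1 : ∀ I : MaximalSpectrum S, Module.finrank k (S ⧸ I.asIdeal) = 1 := fun I => by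
    haveI := I.isMaximal
    letI := Ideal.Quotient.field I.asIdeal
    exact (AlgEquiv.ofBijective (Algebra.ofId k (S ⧸ I.asIdeal))
      IsAlgClosed.algebraMap_bijective_of_isIntegral).toLinearEquiv.finrank_eq.symm.trans (Module.finrank_self k)
  rw [((IsArtinianRing.equivPi S).restrictScalars k).toLinearEquiv.finrank_eq, Module.finrank_pi_fintype,
    Finset.sum_congr rfl fun I _ => h1 I, ← Finset.card_eq_sum_ones, Finset.card_univ, ← Nat.card_eq_fintype_card]
  exact Nat.card_congr (IsArtinianRing.primeSpectrumEquivMaximalSpectrum (R := S))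

variable {A B : Type u} [CommRing A] [IsDomain A] [CommRing B] [IsDomain B] [Algebra A B]
  [Module.Finite A B] [Module.Flat A B] [IsNoetherianRing A]

/-- The rank of a finite flat extension of domains is the degree of the extension of fraction fields. -/
theorem rankAtStalk_eq (hinj : Function.Injective (algebraMap A B)) (K L : Type u) [Field K] [Field L]
    [Algebra A K] [IsFractionRing A K] [Algebra B L] [IsFractionRing B L] [Algebra A L] [IsScalarTower A B L]
    [Algebra K L] [IsScalarTower A K L] (p : PrimeSpectrum A) :
    Module.rankAtStalk (R := A) B p = Module.finrank K L := by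
  haveI : Module.FinitePresentation A B := Module.finitePresentation_of_finite A B
  haveI : IsLocalization (Algebra.algebraMapSubmonoid B (nonZeroDivisors A)) L := by
    refine { map_units := ?_, surj := ?_, exists_of_eq := ?_ }
    · rintro ⟨_, a, ha, rfl⟩
      exact isUnit_iff_ne_zero.2 ((map_ne_zero_iff _ (IsFractionRing.injective B L)).2
        ((map_ne_zero_iff _ hinj).2 (nonZeroDivisors.ne_zero ha)))
    · intro z
      obtain ⟨b, c, hc, rfl⟩ := IsFractionRing.div_surjective B z
      have hc0 : c ≠ 0 := nonZeroDivisors.ne_zero hc
      have hne : (Ideal.span {c}).comap (algebraMap A B) ≠ ⊥ := fun h =>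
        hc0 (Ideal.span_singleton_eq_bot.1 (Ideal.eq_bot_of_comap_eq_bot h))
      obtain ⟨a, ha, ha0⟩ := Submodule.exists_mem_ne_zero_of_ne_bot hne
      obtain ⟨d, hd⟩ := Ideal.mem_span_singleton'.1 (Ideal.mem_comap.1 ha)
      refine ⟨(b * d, ⟨algebraMap A B a, a, mem_nonZeroDivisors_of_ne_zero ha0, rfl⟩), ?_⟩
      have hcL : algebraMap B L c ≠ 0 := (map_ne_zero_iff _ (IsFractionRing.injective B L)).2 hc0
      show algebraMap B L b / algebraMap B L c * algebraMap B L (algebraMap A B a) = algebraMap B L (b * d)
      rw [← hd, map_mul, map_mul]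
      field_simp
    · intro x y h
      exact ⟨1, by rw [IsFractionRing.injective B L h]⟩
  have hloc : IsLocalizedModule (nonZeroDivisors A) (IsScalarTower.toAlgHom A B L).toLinearMap :=
    isLocalizedModule_iff_isLocalization.mpr inferInstance
  have hbc : IsBaseChange K (IsScalarTower.toAlgHom A B L).toLinearMap :=
    IsLocalizedModule.isBaseChange (nonZeroDivisors A) K _
  rw [(isLocallyConstant_rankAtStalk).apply_eq_of_preconnectedSpace p
    (PrimeSpectrum.comap (algebraMap A K) ⊥), ← Module.rankAtStalk_baseChange]
  simp [hbc.equiv.finrank_eq]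
where
  isLocallyConstant_rankAtStalk : IsLocallyConstant (Module.rankAtStalk (R := A) B) := by
    haveI : Module.FinitePresentation A B := Module.finitePresentation_of_finite A B
    exact Module.isLocallyConstant_rankAtStalk

omit [IsDomain A] [IsDomain B] [Module.Flat A B] [IsNoetherianRing A] in
/-- The number of points over a maximal ideal with algebraically closed residue field. -/
theorem card_fibre [Algebra.FormallyUnramified A B] (P : PrimeSpectrum A) [IsAlgClosed P.asIdeal.ResidueField] :
    Nat.card ↥(PrimeSpectrum.comap (algebraMap A B) ⁻¹' {P}) =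
      Module.finrank P.asIdeal.ResidueField (P.asIdeal.ResidueField ⊗[A] B) := by
  rw [← card_primeSpectrum P.asIdeal.ResidueField (P.asIdeal.ResidueField ⊗[A] B)]
  exact Nat.card_congr (PrimeSpectrum.preimageEquivFiber A B P)

theorem card_fibre_eq_degree [Algebra.FormallyUnramified A B] (hinj : Function.Injective (algebraMap A B))
    (K L : Type u) [Field K] [Field L]
    [Algebra A K] [IsFractionRing A K] [Algebra B L] [IsFractionRing B L] [Algebra A L] [IsScalarTower A B L]
    [Algebra K L] [IsScalarTower A K L] (P : PrimeSpectrum A) [IsAlgClosed P.asIdeal.ResidueField] :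
    Nat.card ↥(PrimeSpectrum.comap (algebraMap A B) ⁻¹' {P}) = Module.finrank K L := by
  rw [card_fibre, ← rankAtStalk_eq hinj K L P, Module.rankAtStalk_eq]

/-- Residue fields at maximal ideals of finitely generated algebras over an algebraically closed field. -/
theorem isAlgClosed_residueField (k : Type u) [Field k] [IsAlgClosed k] (A : Type u) [CommRing A] [Algebra k A]
    [Algebra.FiniteType k A] (P : Ideal A) [P.IsMaximal] : IsAlgClosed P.ResidueField := by
  letI := Ideal.Quotient.field P
  haveI : Algebra.FiniteType k (A ⧸ P) :=
    Algebra.FiniteType.of_surjective (Ideal.Quotient.mkₐ k P) Ideal.Quotient.mk_surjective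
  haveI : Module.Finite k (A ⧸ P) := finite_of_finite_type_of_isJacobsonRing k (A ⧸ P)
  let e : k ≃+* (A ⧸ P) := RingEquiv.ofBijective _ (IsAlgClosed.algebraMap_bijective_of_isIntegral (k := k) (K := A ⧸ P))
  have hb : Function.Bijective (algebraMap (A ⧸ P) P.ResidueField) :=
    Ideal.bijective_algebraMap_quotient_residueField P
  exact IsAlgClosed.of_ringEquiv k _ (e.trans (RingEquiv.ofBijective _ hb))

end Groth.Agent.EtaleCount
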